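import Cfsg.Agent.Lib.Concrete.LeechMonomial
import Cfsg.Agent.Lib.Concrete.GolayPerm

/-!
# An automorphism of the lattice whose square is negation
-/

set_option autoImplicit false

namespace Cfsg.Lib.Leech

open Cfsg Cfsg.Lib.Concrete

/-- The packed form of `x ↦ -1/x`. -/
def pFlip : ℕ := 1795248432537898728475572672376535

/-- The permutation `x ↦ -1/x` of the projective line of order 23. -/
def flipFun (q : GolayPt) : GolayPt := gpt (Fin.ofNat 24 (pget pFlip (gidx q).val))

theorem flipFun_invol : ∀ q : GolayPt, flipFun (flipFun q) = q := by decide +kernel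

/-- The permutation as an equivalence. -/
def flipPerm : Equiv.Perm GolayPt := ⟨flipFun, flipFun, flipFun_invol, flipFun_invol⟩

theorem rep_flip : Cfsg.Lib.Concrete.Rep flipPerm pFlip := by unfold Cfsg.Lib.Concrete.Rep; decide +kernel

theorem flip_mem_M24 : flipPerm ∈ M24 := rep_mem_M24 rep_flip (by decide +kernel)

/-- The squares , zero included. -/
def qrSet : Finset GolayPt := mset 340831

theorem qrSet_mem : qrSet ∈ codeSets := (mset_mem_supports_iff (by norm_num)).2 (by decide +kernel)

theorem qrSet_flip : ∀ q : GolayPt, (flipPerm.symm q ∈ qrSet) ↔ q ∉ qrSet := by decide +kernel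

theorem flipPerm_symm : ∀ q : GolayPt, flipPerm.symm (flipPerm.symm q) = q := flipFun_invol

/-- An automorphism squaring to negation. -/
noncomputable def rootNeg : Co0 := monoCo0 flipPerm flip_mem_M24 qrSet qrSet_mem

theorem rootNeg_sq (v : leechLattice) :
    (((rootNeg * rootNeg : Co0) • v : leechLattice) : GolayPt → ℤ) = -(v : GolayPt → ℤ) := by
  funext q
  show ((rootNeg : Equiv.Perm leechLattice) ((rootNeg : Equiv.Perm leechLattice) v) : GolayPt → ℤ) q = _
  simp only [rootNeg, monoCo0_apply, signedPerm, flipPerm_symm, Pi.neg_apply]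
  by_cases h : q ∈ qrSet
  · rw [if_pos h, if_neg fun e => (qrSet_flip q).1 e h]
  · rw [if_neg h, if_pos ((qrSet_flip q).2 h)]

end Cfsg.Lib.Leech
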