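import Cfsg.Agent.Lib.Concrete.LeechMonomial
import Cfsg.Prelude.Def_Spor_Conway

/-!
# The representation of the second Conway group modulo 13
-/

set_option autoImplicit false

namespace Cfsg.Lib.Leech

open Cfsg Cfsg.Lib.Concrete

/-- Reduction modulo 13. -/
def red13 (v : leechLattice) : GolayPt → ZMod 13 := fun i => ((v.1 i : ℤ) : ZMod 13)

theorem red13_e8 (j : GolayPt) : red13 (e8 j) = (8 : ZMod 13) • Pi.single j (1 : ZMod 13) := by
  funext i
  simp only [red13, e8, Pi.single_apply, Pi.smul_apply, smul_eq_mul]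
  split <;> simp

/-- An automorphism of the lattice as a linear map modulo 13. -/
def act13 (g : Equiv.Perm leechLattice) : (GolayPt → ZMod 13) →ₗ[ZMod 13] GolayPt → ZMod 13 :=
  ∑ j, (LinearMap.proj (φ := fun _ : GolayPt => ZMod 13) j).smulRight ((5 : ZMod 13) • red13 (g (e8 j)))

theorem act13_red {g : Equiv.Perm leechLattice} (hg : g ∈ Co0) (v : leechLattice) :
    act13 g (red13 v) = red13 (g v) := by
  funext i
  have h1 : co0Hom ⟨g, hg⟩ ((8 : ℤ) • v) = co0Hom ⟨g, hg⟩ (∑ j, (v.1 j) • e8 j) := by rw [sum_smul_e8]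
  rw [map_zsmul, map_sum] at h1
  have h2 := congrArg (fun w : leechLattice => ((w.1 i : ℤ) : ZMod 13)) h1
  simp only [AddSubgroup.coe_zsmul, AddSubgroup.val_finsetSum, Pi.smul_apply, Finset.sum_apply, map_zsmul,
    smul_eq_mul, Int.cast_mul, Int.cast_sum] at h2
  change ((8 : ℤ) : ZMod 13) * red13 (g v) i = ∑ j, ((v.1 j : ℤ) : ZMod 13) * red13 (g (e8 j)) i at h2
  simp only [act13, LinearMap.coe_sum, Finset.sum_apply, LinearMap.coe_smulRight, LinearMap.proj_apply,
    Pi.smul_apply, smul_eq_mul]
  calc ∑ j, red13 v j * (5 * red13 (g (e8 j)) i)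
      = 5 * ∑ j, ((v.1 j : ℤ) : ZMod 13) * red13 (g (e8 j)) i := by
        rw [Finset.mul_sum]; exact Finset.sum_congr rfl fun j _ => by simp only [red13]; ring
    _ = (5 * ((8 : ℤ) : ZMod 13)) * red13 (g v) i := by rw [← h2, mul_assoc]
    _ = red13 (g v) i := by rw [show (5 : ZMod 13) * ((8 : ℤ) : ZMod 13) = 1 by decide, one_mul]

theorem linearMap_ext_e8 {M : Type*} [AddCommGroup M] [Module (ZMod 13) M]
    {f h : (GolayPt → ZMod 13) →ₗ[ZMod 13] M} (hf : ∀ j, f (red13 (e8 j)) = h (red13 (e8 j))) : f = h := by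
  refine LinearMap.pi_ext fun j a => ?_
  have h1 := hf j
  have h8 : ∀ b : ZMod 13, (5 * b) * 8 = b := by decide
  have hs : (Pi.single j a : GolayPt → ZMod 13) = (5 * a) • red13 (e8 j) := by
    rw [red13_e8, smul_smul]
    funext i
    simp only [Pi.single_apply, Pi.smul_apply, smul_eq_mul]
    split
    · rw [mul_one, h8]
    · rw [mul_zero]
  rw [hs, map_smul, map_smul, h1]

theorem dotInt_eq {g : Equiv.Perm leechLattice} (hg : g ∈ Co0) (v w : leechLattice) :
    dotInt (g v : GolayPt → ℤ) (g w : GolayPt → ℤ) = dotInt (v : GolayPt → ℤ) w := by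
  have hexp : ∀ a b : GolayPt → ℤ, sqNorm (a + b) = sqNorm a + sqNorm b + 2 * dotInt a b := fun a b => by
    simp only [sqNorm, dotInt, Pi.add_apply, Finset.mul_sum, ← Finset.sum_add_distrib]
    exact Finset.sum_congr rfl fun i _ => by ring
  have h := hg.2 (v + w)
  rw [hg.1 v w, AddSubgroup.coe_add, AddSubgroup.coe_add, hexp, hexp, hg.2 v, hg.2 w] at h
  linarith

/-- The functional cutting out the orthogonal space of the fixed vector. -/
def perp13 : (GolayPt → ZMod 13) →ₗ[ZMod 13] ZMod 13 :=
  (LinearMap.proj (R := ZMod 13) (φ := fun _ : GolayPt => ZMod 13) none) +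
    (LinearMap.proj (R := ZMod 13) (φ := fun _ : GolayPt => ZMod 13) (some 0))

theorem perp13_red (v : leechLattice) :
    (4 : ZMod 13) * perp13 (red13 v) = ((dotInt (v : GolayPt → ℤ) Spor.vecU : ℤ) : ZMod 13) := by
  have h : dotInt (v : GolayPt → ℤ) Spor.vecU = 4 * (v.1 none + v.1 (some 0)) := by
    rw [dotInt, ← Finset.sum_subset (Finset.subset_univ {none, some (0 : ZMod 23)})
      (fun i _ hi => by simp only [Finset.mem_insert, Finset.mem_singleton] at hi; simp [Spor.vecU, hi]),
      Finset.sum_pair (by simp)]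
    simp [Spor.vecU]; ring
  rw [h]
  simp [perp13, red13]

theorem perp13_act {g : Equiv.Perm leechLattice} (hg : g ∈ Spor.Co2) (x : GolayPt → ZMod 13) :
    perp13 (act13 g x) = perp13 x := by
  have h := linearMap_ext_e8 (f := perp13.comp (act13 g)) (h := perp13) fun j => by
    have h4 : ∀ a b : ZMod 13, 4 * a = 4 * b → a = b := by decide
    refine h4 _ _ ?_
    have hu : (g Spor.leechU) = Spor.leechU := MulAction.mem_stabilizer_iff.1 hg.2
    rw [LinearMap.comp_apply, act13_red hg.1, perp13_red, perp13_red]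
    congr 1
    have := dotInt_eq hg.1 (e8 j) Spor.leechU
    rwa [hu] at this
  exact LinearMap.congr_fun h x

/-- The inclusion of the orthogonal space. -/
def embed13 : (Fin 23 → ZMod 13) →ₗ[ZMod 13] GolayPt → ZMod 13 where
  toFun y := fun i => match i with
    | none => - y 0
    | some t => y (t : Fin 23)
  map_add' a b := by funext i; cases i <;> simp [add_comm]; rfl
  map_smul' c a := by funext i; cases i <;> simp <;> rfl

/-- The projection onto the orthogonal space. -/
def restrict13 : (GolayPt → ZMod 13) →ₗ[ZMod 13] Fin 23 → ZMod 13 where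
  toFun x := fun t => x (some (t : ZMod 23))
  map_add' _ _ := rfl
  map_smul' _ _ := rfl

theorem restrict13_embed (y : Fin 23 → ZMod 13) : restrict13 (embed13 y) = y := rfl

theorem perp13_embed (y : Fin 23 → ZMod 13) : perp13 (embed13 y) = 0 := by
  show - y 0 + y ((0 : ZMod 23) : Fin 23) = 0
  exact neg_add_cancel _

theorem embed13_restrict {x : GolayPt → ZMod 13} (h : perp13 x = 0) : embed13 (restrict13 x) = x := by
  funext i
  cases i with
  | none =>
    show - x (some ((0 : Fin 23) : ZMod 23)) = x none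
    have : x none + x (some 0) = 0 := h
    exact (eq_neg_of_add_eq_zero_left this).symm
  | some t => rfl

theorem act13_one (x : GolayPt → ZMod 13) : act13 1 x = x := by
  have h := linearMap_ext_e8 (f := act13 1) (h := LinearMap.id) fun j =>
    (act13_red (g := (1 : Equiv.Perm leechLattice)) (one_mem Co0) (e8 j)).trans rfl
  exact LinearMap.congr_fun h x

theorem act13_mul {g h : Equiv.Perm leechLattice} (hg : g ∈ Co0) (hh : h ∈ Co0) (x : GolayPt → ZMod 13) :
    act13 (g * h) x = act13 g (act13 h x) := by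
  have hm := linearMap_ext_e8 (f := act13 (g * h)) (h := (act13 g).comp (act13 h)) fun j => by
    rw [LinearMap.comp_apply, act13_red (mul_mem hg hh), act13_red hh, act13_red hg, Equiv.Perm.mul_apply]
  exact LinearMap.congr_fun hm x

/-- The restricted linear map. -/
def act23 (g : Equiv.Perm leechLattice) : (Fin 23 → ZMod 13) →ₗ[ZMod 13] Fin 23 → ZMod 13 :=
  restrict13.comp ((act13 g).comp embed13)

theorem act23_apply (g : Equiv.Perm leechLattice) (y : Fin 23 → ZMod 13) :
    act23 g y = restrict13 (act13 g (embed13 y)) := rfl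

theorem act23_one : act23 1 = LinearMap.id :=
  LinearMap.ext fun y => by rw [act23_apply, act13_one, restrict13_embed, LinearMap.id_apply]

theorem act23_mul {g h : Equiv.Perm leechLattice} (hg : g ∈ Spor.Co2) (hh : h ∈ Spor.Co2) :
    act23 (g * h) = (act23 g).comp (act23 h) :=
  LinearMap.ext fun y => by
    rw [LinearMap.comp_apply, act23_apply, act23_apply, act23_apply, act13_mul hg.1 hh.1, embed13_restrict]
    rw [perp13_act hh, perp13_embed]

/-- The matrices of the representation. -/
noncomputable def co2Matrix : Spor.Co2 →* Matrix (Fin 23) (Fin 23) (ZMod 13) where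
  toFun g := LinearMap.toMatrix' (act23 (g : Equiv.Perm leechLattice))
  map_one' := by rw [OneMemClass.coe_one, act23_one, LinearMap.toMatrix'_id]
  map_mul' g h := by rw [Subgroup.coe_mul, act23_mul g.2 h.2, LinearMap.toMatrix'_comp]

theorem co2Matrix_injective : Function.Injective co2Matrix := by
  rw [injective_iff_map_eq_one]
  intro g hg
  have hgl : act23 (g : Equiv.Perm leechLattice) = LinearMap.id :=
    LinearMap.toMatrix'.injective (hg.trans LinearMap.toMatrix'_id.symm)
  have hW : ∀ x, perp13 x = 0 → act13 (g : Equiv.Perm leechLattice) x = x := by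
    intro x hx
    have h1 := LinearMap.congr_fun hgl (restrict13 x)
    rw [act23_apply, LinearMap.id_apply, embed13_restrict hx] at h1
    rw [← embed13_restrict (by rw [perp13_act g.2]; exact hx :
      perp13 (act13 (g : Equiv.Perm leechLattice) x) = 0), h1, embed13_restrict hx]
  have hu : act13 (g : Equiv.Perm leechLattice) (red13 Spor.leechU) = red13 Spor.leechU := by
    rw [act13_red g.2.1, show (g : Equiv.Perm leechLattice) Spor.leechU = Spor.leechU from
      MulAction.mem_stabilizer_iff.1 g.2.2]
  have hu8 : perp13 (red13 Spor.leechU) = 8 := by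
    show ((Spor.vecU none : ℤ) : ZMod 13) + ((Spor.vecU (some 0) : ℤ) : ZMod 13) = 8
    rw [show Spor.vecU none = 4 from rfl, show Spor.vecU (some 0) = 4 from rfl]
    norm_num
  have hall : ∀ x, act13 (g : Equiv.Perm leechLattice) x = x := fun x => by
    set y := x - (5 * perp13 x) • red13 Spor.leechU with hy
    have hy0 : perp13 y = 0 := by
      rw [hy, map_sub, map_smul, hu8, smul_eq_mul]
      have : ∀ a : ZMod 13, a - 5 * a * 8 = 0 := by decide
      exact this _
    have hx : x = y + (5 * perp13 x) • red13 Spor.leechU := by rw [hy, sub_add_cancel]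
    rw [hx, map_add, map_smul, hW y hy0, hu]
  have he8 : ∀ j, (g : Equiv.Perm leechLattice) (e8 j) = e8 j := by
    intro j
    have h1 : red13 ((g : Equiv.Perm leechLattice) (e8 j)) = red13 (e8 j) := by rw [← act13_red g.2.1, hall]
    set v := ((g : Equiv.Perm leechLattice) (e8 j) : GolayPt → ℤ) with hv
    have hn : sqNorm v = 64 := by
      rw [hv, g.2.1.2]
      rw [sqNorm, Finset.sum_eq_single j (fun i _ hij => by simp [e8, hij]) (by simp)]
      simp [e8]
    have hle : ∀ i, v i ^ 2 ≤ 64 := fun i => by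
      rw [← hn]; exact Finset.single_le_sum (fun k _ => sq_nonneg (v k)) (Finset.mem_univ i)
    have hzero : ∀ i, i ≠ j → v i = 0 := by
      intro i hij
      have h2 : ((v i : ℤ) : ZMod 13) = (((e8 j).1 i : ℤ) : ZMod 13) := congrFun h1 i
      rw [show (e8 j).1 i = 0 by simp [e8, hij], Int.cast_zero, ZMod.intCast_zmod_eq_zero_iff_dvd] at h2
      obtain ⟨k, hk⟩ := h2
      have := hle i
      rw [hk] at this
      push_cast at this
      have hk0 : k = 0 := by
        by_contra hk0
        have : 1 ≤ k ^ 2 := by nlinarith [Int.one_le_abs hk0, sq_abs k]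
        nlinarith
      rw [hk, hk0]; simp
    apply Subtype.ext
    funext i
    by_cases hij : i = j
    · subst hij
      have h2 : v i ^ 2 = 64 := by
        rw [← hn, sqNorm, Finset.sum_eq_single i (fun k _ hk => by simp [hzero k hk]) (by simp)]
      have h3 : ((v i : ℤ) : ZMod 13) = (((e8 i).1 i : ℤ) : ZMod 13) := congrFun h1 i
      rw [show (e8 i).1 i = 8 by simp [e8]] at h3 ⊢
      show v i = 8
      rcases sq_eq_sq_iff_eq_or_eq_neg.1 (show v i ^ 2 = (8 : ℤ) ^ 2 by rw [h2]; norm_num) with h | h
      · exact h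
      · rw [h] at h3; exact absurd h3 (by decide)
    · show v i = (e8 j).1 i
      rw [hzero i hij]; simp [e8, hij]
  refine Subtype.ext (Equiv.ext fun v => Subtype.ext ?_)
  exact co0_eq_of_e8 (g := ⟨(g : Equiv.Perm leechLattice), g.2.1⟩) (f := id) (fun _ _ => rfl)
    (fun i => congrArg Subtype.val (he8 i)) v

theorem co2_embeds : ∃ f : ↥Spor.Co2 →* GL (Fin 23) (ZMod 13), Function.Injective f :=
  ⟨co2Matrix.toHomUnits, fun a b h => co2Matrix_injective (by
    rw [← co2Matrix.coe_toHomUnits a, h, co2Matrix.coe_toHomUnits])⟩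

end Cfsg.Lib.Leech
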