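import Cfsg.Agent.Lib.Leech.UniqueAux
import Cfsg.Agent.Lib.Concrete.Leech
import Cfsg.Agent.S0375
import Cfsg.Agent.S1588

/-!
Uniqueness of the rank 24 even lattice with the vector counts of the Leech lattice.
-/

set_option autoImplicit false

namespace Cfsg.Lib.Leech.Unique

open Matrix

/-- The frame basis: 24 pairwise orthogonal vectors of norm 8 in one class. -/
theorem exists_frame (B : Matrix (Fin 24) (Fin 24) ℤ) (hsymm : B.IsSymm)
    (hpos : ∀ x : Fin 24 → ℤ, x ≠ 0 → 0 < x ⬝ᵥ (B *ᵥ x)) (heven : ∀ x : Fin 24 → ℤ, (2 : ℤ) ∣ x ⬝ᵥ (B *ᵥ x))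
    (h2 : ∀ x : Fin 24 → ℤ, x ⬝ᵥ (B *ᵥ x) ≠ 2)
    (h4 : {x : Fin 24 → ℤ | x ⬝ᵥ (B *ᵥ x) = 4}.ncard = 196560)
    (h6 : {x : Fin 24 → ℤ | x ⬝ᵥ (B *ᵥ x) = 6}.ncard = 16773120)
    (h8 : {x : Fin 24 → ℤ | x ⬝ᵥ (B *ᵥ x) = 8}.ncard = 398034000) :
    ∃ e : Fin 24 → (Fin 24 → ℤ), (∀ i, e i ⬝ᵥ (B *ᵥ e i) = 8) ∧ (∀ i j, i ≠ j → e i ⬝ᵥ (B *ᵥ e j) = 0) ∧
      ∀ i j k, (2 : ℤ) ∣ (e i - e j) k := by
  classical
  obtain ⟨x, hx⟩ : {x : Fin 24 → ℤ | x ⬝ᵥ (B *ᵥ x) = 8}.Nonempty := Set.nonempty_of_ncard_ne_zero (by omega)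
  have h48 := Cfsg.Agent.S1588.result B hsymm hpos heven h2 h4 h6 h8 x hx
  have hfin := Set.finite_of_ncard_ne_zero (h48.trans_ne (by norm_num))
  set S := hfin.toFinset with hS
  have mS : ∀ y, y ∈ S ↔ y ⬝ᵥ (B *ᵥ y) = 8 ∧ ∀ i, (2 : ℤ) ∣ (x - y) i := fun y => hfin.mem_toFinset
  have cS : S.card = 48 := by rw [hS, ← Set.ncard_eq_toFinset_card _ hfin]; exact h48
  set P := S.filter Cfsg.Agent.S1588.Pos
  set N := S.filter fun v => Cfsg.Agent.S1588.Pos (-v)
  have hneg : ∀ v ∈ S, -v ∈ S := fun v hv => by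
    obtain ⟨a, b⟩ := (mS v).1 hv
    refine (mS _).2 ⟨by simp [Matrix.mulVec_neg, a], fun i => ?_⟩
    obtain ⟨c, hc⟩ := b i
    exact ⟨c + v i, by simp only [Pi.sub_apply, Pi.neg_apply] at hc ⊢; linarith⟩
  have hsplit : S ⊆ P ∪ P.image Neg.neg := fun v hv => by
    have hv0 : v ≠ 0 := fun h => by have := ((mS v).1 hv).1; simp [h] at this
    rcases Cfsg.Agent.S1588.pos_or hv0 with h | h
    · exact Finset.mem_union_left _ (Finset.mem_filter.2 ⟨hv, h⟩)
    · exact Finset.mem_union_right _ (Finset.mem_image.2 ⟨-v, Finset.mem_filter.2 ⟨hneg v hv, h⟩, neg_neg v⟩)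
  have hP : 24 ≤ P.card := by
    have := ((Finset.card_le_card hsplit).trans (Finset.card_union_le _ _)).trans
      (Nat.add_le_add_left Finset.card_image_le _)
    omega
  obtain ⟨e⟩ : Nonempty (Fin 24 ↪ P) := Function.Embedding.nonempty_of_card_le (by simpa using hP)
  refine ⟨fun i => e i, fun i => ((mS _).1 (Finset.mem_filter.1 (e i).2).1).1, fun i j hij => ?_,
    fun i j k => ?_⟩
  · obtain ⟨hi, hip⟩ := Finset.mem_filter.1 (e i).2
    obtain ⟨hj, hjp⟩ := Finset.mem_filter.1 (e j).2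
    refine (Cfsg.Agent.S1588.small_class hsymm hpos heven h2 ((Cfsg.Agent.S1588.red_eq_iff _ _).2 fun k => ?_)
      ((mS _).1 hi).1.le ((mS _).1 hj).1.le (fun h => hij (e.injective (Subtype.ext h)))
      (fun h => Cfsg.Agent.S1588.not_pos_neg hjp (h ▸ hip))).2.2
    obtain ⟨c, hc⟩ := ((mS _).1 hi).2 k
    obtain ⟨d, hd⟩ := ((mS _).1 hj).2 k
    exact ⟨d - c, by simp only [Pi.sub_apply] at hc hd ⊢; linarith⟩
  · obtain ⟨c, hc⟩ := ((mS _).1 (Finset.mem_filter.1 (e i).2).1).2 k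
    obtain ⟨d, hd⟩ := ((mS _).1 (Finset.mem_filter.1 (e j).2).1).2 k
    exact ⟨d - c, by simp only [Pi.sub_apply] at hc hd ⊢; linarith⟩

/-- Frame coordinates. -/
theorem exists_coord (B : Matrix (Fin 24) (Fin 24) ℤ) (hsymm : B.IsSymm)
    (hpos : ∀ x : Fin 24 → ℤ, x ≠ 0 → 0 < x ⬝ᵥ (B *ᵥ x)) (heven : ∀ x : Fin 24 → ℤ, (2 : ℤ) ∣ x ⬝ᵥ (B *ᵥ x))
    (h2 : ∀ x : Fin 24 → ℤ, x ⬝ᵥ (B *ᵥ x) ≠ 2)
    (h4 : {x : Fin 24 → ℤ | x ⬝ᵥ (B *ᵥ x) = 4}.ncard = 196560)
    (h6 : {x : Fin 24 → ℤ | x ⬝ᵥ (B *ᵥ x) = 6}.ncard = 16773120)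
    (h8 : {x : Fin 24 → ℤ | x ⬝ᵥ (B *ᵥ x) = 8}.ncard = 398034000) :
    ∃ f : (Fin 24 → ℤ) →+ (Fin 24 → ℤ), Function.Injective f ∧
      (∀ v, ∑ i, f v i * f v i = 8 * (v ⬝ᵥ (B *ᵥ v))) ∧ Framed f.range ∧
      {x : Fin 24 → ℤ | x ∈ f.range ∧ ∑ i, x i * x i = 32}.ncard = 196560 := by
  classical
  obtain ⟨e, he8, he0, he2⟩ := exists_frame B hsymm hpos heven h2 h4 h6 h8
  have hq := fun a b => Cfsg.Agent.S1588.form_comm hsymm a b
  let f : (Fin 24 → ℤ) →+ (Fin 24 → ℤ) :=
    AddMonoidHom.mk' (fun v i => e i ⬝ᵥ (B *ᵥ v)) fun v w => funext fun i => by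
      simp [Matrix.mulVec_add, dotProduct_add]
  have hf : ∀ v i, f v i = e i ⬝ᵥ (B *ᵥ v) := fun _ _ => rfl
  have hexp : ∀ v, (8 : ℤ) • v = ∑ i, f v i • e i := by
    intro v
    by_contra hne
    set w := (8 : ℤ) • v - ∑ i, f v i • e i with hw
    have hw0 : w ≠ 0 := sub_ne_zero.2 hne
    have horth : ∀ j, e j ⬝ᵥ (B *ᵥ w) = 0 := by
      intro j
      rw [hw, Matrix.mulVec_sub, Matrix.mulVec_smul, dotProduct_sub, dotProduct_smul, Matrix.mulVec_sum,
        dotProduct_sum, Finset.sum_eq_single j]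
      · rw [Matrix.mulVec_smul, dotProduct_smul, he8, hf, smul_eq_mul, smul_eq_mul]; ring
      · intro i _ hij
        rw [Matrix.mulVec_smul, dotProduct_smul, he0 j i (Ne.symm hij), smul_zero]
      · simp
    let g : Option (Fin 24) → (Fin 24 → ℤ) := fun o => o.elim w e
    have go : ∀ o o', o ≠ o' → g o ⬝ᵥ (B *ᵥ g o') = 0 := by
      rintro (_ | i) (_ | j) h
      · exact absurd rfl h
      · exact (hq _ _).trans (horth j)
      · exact horth i
      · exact he0 i j fun hij => h (by rw [hij])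
    have li : LinearIndependent ℤ g := by
      rw [Fintype.linearIndependent_iff]
      intro c hc o
      have e' : (∑ i, c i • g i) ⬝ᵥ (B *ᵥ g o) = c o * (g o ⬝ᵥ (B *ᵥ g o)) := by
        rw [sum_dotProduct, Finset.sum_eq_single o]
        · rw [smul_dotProduct, smul_eq_mul]
        · intro i _ hio; rw [smul_dotProduct, go i o hio, smul_zero]
        · simp
      rw [hc, zero_dotProduct] at e'
      have : g o ⬝ᵥ (B *ᵥ g o) ≠ 0 := by
        cases o with
        | none => exact (hpos w hw0).ne'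
        | some i => show e i ⬝ᵥ (B *ᵥ e i) ≠ 0; rw [he8]; norm_num
      exact (mul_eq_zero.1 e'.symm).resolve_right this
    have := li.fintype_card_le_finrank
    simp at this
  have hpair : ∀ v w, ∑ i, f v i * f w i = 8 * (v ⬝ᵥ (B *ᵥ w)) := by
    intro v w
    calc ∑ i, f v i * f w i = (∑ i, f v i • e i) ⬝ᵥ (B *ᵥ w) := by
          rw [sum_dotProduct]
          exact Finset.sum_congr rfl fun i _ => by rw [smul_dotProduct, hf w, smul_eq_mul]
      _ = 8 * (v ⬝ᵥ (B *ᵥ w)) := by rw [← hexp, smul_dotProduct, smul_eq_mul]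
  have hinj : Function.Injective f := by
    refine (injective_iff_map_eq_zero f).2 fun v hv => ?_
    by_contra hv0
    have := hpair v v
    rw [hv] at this
    have := hpos v hv0
    simp at *
    omega
  have hmem8 : ∀ i, f (e i) = (8 : ℤ) • Pi.single i 1 := fun i => funext fun j => by
    by_cases hji : j = i
    · subst hji; simp [hf, he8]
    · simp [hf, he0 j i hji, hji]
  have four : ∀ b : Fin 24 → ℤ, Even (∑ i, b i) → (4 : ℤ) • b ∈ f.range := by
    intro b hb
    obtain ⟨k, hk⟩ := hb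
    have hhalf : ∀ i, (4 : ℤ) • (Pi.single i 1 + Pi.single (0 : Fin 24) 1 : Fin 24 → ℤ) ∈ f.range := by
      intro i
      choose z hz using he2 i 0
      refine ⟨z + e 0, funext fun j => ?_⟩
      have e1 : e i = e 0 + (2 : ℤ) • z := funext fun j => by
        have := hz j
        simp only [Pi.sub_apply, Pi.add_apply, Pi.smul_apply, smul_eq_mul] at this ⊢
        linarith
      have h1 : f (e i) j = f (e 0) j + 2 * f z j := by rw [e1, map_add, map_zsmul]; simp
      rw [hmem8, hmem8] at h1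
      rw [map_add, hmem8]
      simp only [Pi.smul_apply, Pi.add_apply, smul_eq_mul] at h1 ⊢
      linarith
    have e4 : (4 : ℤ) • b = ∑ i, b i • ((4 : ℤ) • (Pi.single i 1 + Pi.single (0 : Fin 24) 1 : Fin 24 → ℤ)) -
        k • ((8 : ℤ) • Pi.single (0 : Fin 24) 1) := by
      funext j
      simp only [Pi.sub_apply, Finset.sum_apply, Pi.smul_apply, Pi.add_apply, smul_eq_mul, mul_add,
        Finset.sum_add_distrib, Pi.single_apply]
      by_cases hj : j = 0
      · subst hj
        simp [← Finset.sum_mul, hk]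
        ring
      · simp [hj, mul_comm]
    rw [e4]
    exact sub_mem (sum_mem fun i _ => AddSubgroup.zsmul_mem _ (hhalf i) _)
      (AddSubgroup.zsmul_mem _ (AddMonoidHom.mem_range.2 ⟨e 0, hmem8 0⟩) _)
  refine ⟨f, hinj, fun v => hpair v v, ⟨?_, ?_, ?_, four⟩, ?_⟩
  · rintro _ ⟨v, rfl⟩ _ ⟨w, rfl⟩
    exact ⟨_, hpair v w⟩
  · rintro _ ⟨v, rfl⟩
    obtain ⟨c, hc⟩ := heven v
    exact ⟨c, by rw [hpair, hc]; ring⟩
  · rintro _ ⟨v, rfl⟩ hne
    rw [hpair]
    have := Cfsg.Agent.S1588.four_le hpos heven h2 (w := v) fun h => hne (by rw [h, map_zero])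
    omega
  · rw [← h4, ← Set.ncard_image_of_injective {x : Fin 24 → ℤ | x ⬝ᵥ (B *ᵥ x) = 4} hinj]
    congr 1
    ext x
    constructor
    · rintro ⟨⟨v, rfl⟩, hv⟩
      rw [hpair] at hv
      exact ⟨v, show v ⬝ᵥ (B *ᵥ v) = 4 by omega, rfl⟩
    · rintro ⟨v, hv, rfl⟩
      exact ⟨⟨v, rfl⟩, by rw [hpair, show v ⬝ᵥ (B *ᵥ v) = 4 from hv]; norm_num⟩

/-- A framed lattice with all code sums divisible by four is the Leech lattice. -/
theorem eq_leech (Λ : AddSubgroup (GolayPt → ℤ)) (hΛ : Framed Λ)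
    (hrep : ∀ w ∈ golayCode, ∃ a : GolayPt → ℤ, (2 : ℤ) • a ∈ Λ ∧ red2 a = w ∧ (4 : ℤ) ∣ ∑ i, a i)
    (hC : code Λ ≤ golayCode) (horth : ∀ v : GolayPt → ZMod 2, (∀ c ∈ golayCode, ∑ i, v i * c i = 0) → v ∈ golayCode)
    (hodd : ∃ y ∈ Λ, ∀ i, y i % 2 = 1) : Λ = leechLattice := by
  classical
  have hval : ∀ (z : GolayPt → ℤ) i, (2 * ((red2 z i).val : ℤ)) % 4 = (2 * z i) % 4 := by
    intro z i
    rcases Int.emod_two_eq_zero_or_one (z i) with h | h
    · have h0 : red2 z i = 0 := by rw [red2, ← Int.cast_zero, cast_two_eq_iff]; omega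
      rw [h0, ZMod.val_zero]
      push_cast
      omega
    · have h1 : red2 z i = 1 := by rw [red2, ← Int.cast_one, cast_two_eq_iff]; omega
      rw [h1, ZMod.val_one]
      push_cast
      omega
  have hle : ∀ x ∈ Λ, x ∈ leechLattice := by
    intro x hx
    rw [Cfsg.Lib.Concrete.mem_leechLattice_iff, Cfsg.Lib.Concrete.mem_leechSet_iff]
    by_cases he : ∀ i, x i % 2 = 0
    · set a : GolayPt → ℤ := fun i => x i / 2 with ha
      have hxa : (2 : ℤ) • a = x := funext fun i => by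
        have := he i; simp only [ha, Pi.smul_apply, smul_eq_mul]; omega
      have haΛ : (2 : ℤ) • a ∈ Λ := hxa.symm ▸ hx
      refine ⟨0, red2 a, hC ⟨a, haΛ, rfl⟩, fun i => ?_, ?_⟩
      · have := hval a i
        rw [← hxa]
        simp only [Pi.smul_apply, smul_eq_mul]
        unfold Int.ModEq
        omega
      · obtain ⟨b, hb, hbr, hb4⟩ := hrep _ (hC ⟨a, haΛ, rfl⟩)
        obtain ⟨d, hd⟩ := (red2_eq_iff _ _).1 hbr.symm
        obtain ⟨k, hk⟩ := hΛ.diff_even haΛ hb hd
        rw [← hxa]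
        simp only [Pi.smul_apply, smul_eq_mul, ← Finset.mul_sum]
        rw [hd]
        simp only [Pi.add_apply, Pi.smul_apply, smul_eq_mul, Finset.sum_add_distrib, ← Finset.mul_sum, hk]
        unfold Int.ModEq
        omega
    · simp only [not_forall] at he
      obtain ⟨i0, hi0⟩ := he
      have hallodd : ∀ i, x i % 2 = 1 := fun i => by have := hΛ.parity hx i i0; omega
      set z : GolayPt → ℤ := fun i => x i / 2 with hz
      have hxz : ∀ i, x i = 1 + 2 * z i := fun i => by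
        have := hallodd i; simp only [hz]; omega
      have hzC : red2 z ∈ golayCode := horth _ fun c hc => by
        obtain ⟨b, hb, hbr, hb4⟩ := hrep c hc
        have h8 := hΛ.dot _ hb _ hx
        have e : ∑ i, ((2 : ℤ) • b) i * x i = 2 * (∑ i, b i) + 4 * ∑ i, z i * b i := by
          rw [Finset.mul_sum, Finset.mul_sum, ← Finset.sum_add_distrib]
          exact Finset.sum_congr rfl fun i _ => by rw [hxz i]; simp only [Pi.smul_apply, smul_eq_mul]; ring
        have h2 : (2 : ℤ) ∣ ∑ i, z i * b i := by omega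
        rw [← hbr]
        calc ∑ i, red2 z i * red2 b i = ((∑ i, z i * b i : ℤ) : ZMod 2) := by simp [red2]
          _ = ((0 : ℤ) : ZMod 2) := (cast_two_eq_iff _ _).2 (by simpa using h2)
          _ = 0 := Int.cast_zero
      refine ⟨1, red2 z, hzC, fun i => ?_, ?_⟩
      · have := hval z i
        rw [hxz i]
        unfold Int.ModEq
        omega
      · obtain ⟨b, hb, hbr, hb4⟩ := hrep _ hzC
        obtain ⟨d, hd⟩ := (red2_eq_iff _ _).1 hbr.symm
        have hy : (fun i => 1 + 4 * d i) ∈ Λ := by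
          have := sub_mem hx hb
          have e : x - (2 : ℤ) • b = fun i => 1 + 4 * d i := funext fun i => by
            simp only [Pi.sub_apply, hxz i, hd, Pi.add_apply, Pi.smul_apply, smul_eq_mul]; ring
          rwa [e] at this
        have hoddd : ¬ Even (∑ i, d i) := by
          intro hev
          have h1 : (fun _ => (1 : ℤ)) ∈ Λ := by
            have := sub_mem hy (hΛ.four d hev)
            have e : (fun i => 1 + 4 * d i) - (4 : ℤ) • d = fun _ => (1 : ℤ) := funext fun i => by simp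
            rwa [e] at this
          have := hΛ.low _ h1 (fun e => by simpa using congrFun e none)
          simp at this
        rw [Int.not_even_iff_odd] at hoddd
        obtain ⟨k, hk⟩ := hoddd
        simp only [hxz, hd, Pi.add_apply, Pi.smul_apply, smul_eq_mul, Finset.sum_add_distrib, mul_add,
          ← Finset.mul_sum, Finset.sum_const, Finset.card_univ, nsmul_eq_mul, hk,
          show Fintype.card GolayPt = 24 from rfl]
        unfold Int.ModEq
        omega
  refine le_antisymm hle fun x hx => ?_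
  have even_part : ∀ x ∈ leechLattice, (∀ i, x i % 2 = 0) → x ∈ Λ := by
    intro x hx he
    obtain ⟨m, w, hw, hx1, hx2⟩ := Cfsg.Lib.Concrete.mem_leechSet_iff.1
      (Cfsg.Lib.Concrete.mem_leechLattice_iff.1 hx)
    set a : GolayPt → ℤ := fun i => x i / 2 with ha
    have hxa : (2 : ℤ) • a = x := funext fun i => by
      have := he i; simp only [ha, Pi.smul_apply, smul_eq_mul]; omega
    obtain ⟨n, hn⟩ : (2 : ℤ) ∣ m := by
      have := hx1 none
      have := he none
      unfold Int.ModEq at *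
      omega
    have har : red2 a = w + (n : ZMod 2) • (1 : GolayPt → ZMod 2) := funext fun i => by
      have := hx1 i
      have hxi : x i = 2 * a i := (congrFun hxa i).symm.trans (by simp)
      unfold Int.ModEq at this
      have hz : ((w i).val : ℤ) = ((w i).val : ℤ) := rfl
      show (a i : ZMod 2) = w i + (n : ZMod 2) * 1
      rw [mul_one]
      conv_rhs => rw [← ZMod.natCast_rightInverse (w i), ← Int.cast_natCast, ← Int.cast_add]
      rw [cast_two_eq_iff]
      omega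
    have haC : red2 a ∈ golayCode :=
      har ▸ add_mem hw (Submodule.smul_mem _ _ Cfsg.Lib.Concrete.one_mem_golayCode)
    obtain ⟨b, hb, hbr, hb4⟩ := hrep _ haC
    obtain ⟨d, hd⟩ := (red2_eq_iff _ _).1 hbr.symm
    have hev : Even (∑ i, d i) := by
      rw [← hxa, hd] at hx2
      simp only [Pi.smul_apply, smul_eq_mul, ← Finset.mul_sum, Pi.add_apply, Finset.sum_add_distrib] at hx2
      unfold Int.ModEq at hx2
      rw [even_iff_two_dvd]
      omega
    rw [← hxa, hd, smul_add, smul_smul]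
    exact add_mem hb (hΛ.four d hev)
  obtain ⟨y, hy, hyo⟩ := hodd
  obtain ⟨m, w, hw, hx1, hx2⟩ := Cfsg.Lib.Concrete.mem_leechSet_iff.1
    (Cfsg.Lib.Concrete.mem_leechLattice_iff.1 hx)
  by_cases hm : (2 : ℤ) ∣ m
  · exact even_part x hx fun i => by
      have := hx1 i; unfold Int.ModEq at this; omega
  · have h := even_part (x - y) (sub_mem hx (hle y hy)) fun i => by
      have := hx1 i; have := hyo i
      simp only [Pi.sub_apply]
      unfold Int.ModEq at *
      omega
    have := add_mem h hy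
    rwa [sub_add_cancel] at this

/-- Uniqueness. -/
theorem exists_iso (B : Matrix (Fin 24) (Fin 24) ℤ) (hsymm : B.IsSymm)
    (hpos : ∀ x : Fin 24 → ℤ, x ≠ 0 → 0 < x ⬝ᵥ (B *ᵥ x)) (heven : ∀ x : Fin 24 → ℤ, (2 : ℤ) ∣ x ⬝ᵥ (B *ᵥ x))
    (h2 : ∀ x : Fin 24 → ℤ, x ⬝ᵥ (B *ᵥ x) ≠ 2)
    (h4 : {x : Fin 24 → ℤ | x ⬝ᵥ (B *ᵥ x) = 4}.ncard = 196560)
    (h6 : {x : Fin 24 → ℤ | x ⬝ᵥ (B *ᵥ x) = 6}.ncard = 16773120)
    (h8 : {x : Fin 24 → ℤ | x ⬝ᵥ (B *ᵥ x) = 8}.ncard = 398034000) :
    ∃ f : (Fin 24 → ℤ) ≃+ leechLattice,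
      ∀ x : Fin 24 → ℤ, sqNorm ((f x : leechLattice) : GolayPt → ℤ) = 8 * (x ⬝ᵥ (B *ᵥ x)) := by
  classical
  obtain ⟨f, hinj, hnorm, hF, hcount⟩ := exists_coord B hsymm hpos heven h2 h4 h6 h8
  have h24 : Fintype.card (Fin 24) = 24 := Fintype.card_fin 24
  obtain ⟨hdim, y, hy, hyo⟩ := hF.code_full h24 hcount
  set C := code f.range with hCdef
  have horth : ∀ c ∈ C, ∀ d ∈ C, ∑ i, c i * d i = 0 := fun c hc d hd => hF.code_orth hc hd
  obtain ⟨e, he⟩ := Cfsg.Agent.S0375.result C hdim horth (fun c hc => hF.code_four hc)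
    fun c hc => hF.code_not_four hc
  -- the parity functional
  choose a ha har using fun c : C => mem_code.1 c.2
  have hwd : ∀ (c : C) (b : Fin 24 → ℤ), (2 : ℤ) • b ∈ f.range → red2 b = c →
      (4 : ℤ) ∣ (∑ i, b i) - ∑ i, a c i := by
    intro c b hb hbr
    obtain ⟨d, hd⟩ := (red2_eq_iff _ _).1 (hbr.trans (har c).symm)
    obtain ⟨k, hk⟩ := hF.diff_even hb (ha c) hd
    rw [hd]
    simp only [Pi.add_apply, Pi.smul_apply, smul_eq_mul, Finset.sum_add_distrib, ← Finset.mul_sum, hk]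
    exact ⟨k, by ring⟩
  have hev : ∀ c : C, (2 : ℤ) ∣ ∑ i, a c i := fun c => by
    have h1 := hF.sq_mod_four (ha c)
    have h2 : (2 : ℤ) ∣ (∑ i, a c i * a c i) - ∑ i, a c i := by
      rw [← Finset.sum_sub_distrib]
      refine Finset.dvd_sum fun i _ => ?_
      have := (Int.even_mul_pred_self (a c i)).two_dvd
      rwa [mul_sub, mul_one] at this
    omega
  let φ : C →+ ZMod 2 := AddMonoidHom.mk' (fun c => (((∑ i, a c i) / 2 : ℤ) : ZMod 2)) fun c d => by
    have h := hwd (c + d) (a c + a d) (by rw [smul_add]; exact add_mem (ha c) (ha d))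
      (funext fun i => by
        simp only [red2, Pi.add_apply, Int.cast_add, Submodule.coe_add, ← har c, ← har d])
    simp only [Pi.add_apply, Finset.sum_add_distrib] at h
    have := hev c; have := hev d; have := hev (c + d)
    rw [← Int.cast_add, cast_two_eq_iff]
    omega
  obtain ⟨s, hs⟩ := dot_surjective C (φ.toZModLinearMap 2)
  set ε : Fin 24 → ℤ := fun i => if s i = 0 then 1 else -1 with hε
  have hεε : ∀ i, ε i * ε i = 1 := fun i => by simp only [hε]; split <;> norm_num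
  have hεsum : ∀ c : C, (4 : ℤ) ∣ ∑ i, ε i * a c i := by
    intro c
    have hsc := hs c
    have e1 : ∑ i, ε i * a c i = (∑ i, a c i) - 2 * ∑ i, (((s i).val : ℤ) * a c i) := by
      rw [Finset.mul_sum, ← Finset.sum_sub_distrib]
      refine Finset.sum_congr rfl fun i _ => ?_
      simp only [hε]
      rcases (show ∀ k : ZMod 2, k = 0 ∨ k = 1 by decide) (s i) with h | h
      · rw [if_pos h, h, ZMod.val_zero]; simp
      · rw [if_neg (by rw [h]; decide), h, ZMod.val_one]; ring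
    have e2 : ((∑ i, (((s i).val : ℤ) * a c i) : ℤ) : ZMod 2) = φ c := by
      rw [show φ c = φ.toZModLinearMap 2 c from rfl, hsc, Int.cast_sum]
      refine Finset.sum_congr rfl fun i _ => ?_
      rw [Int.cast_mul, Int.cast_natCast, ZMod.natCast_rightInverse (s i)]
      exact congrArg (s i * ·) (congrFun (har c) i)
    have e3 := (cast_two_eq_iff _ _).1 e2
    have := hev c
    omega
  -- transport to the Golay coordinates
  let T : (Fin 24 → ℤ) ≃+ (GolayPt → ℤ) :=
    { toFun := fun x j => ε (e.symm j) * x (e.symm j)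
      invFun := fun z i => ε i * z (e i)
      left_inv := fun x => funext fun i => by simp [← mul_assoc, hεε]
      right_inv := fun z => funext fun j => by simp [← mul_assoc, hεε]
      map_add' := fun x y => funext fun j => by simp [mul_add] }
  have hT : ∀ x j, T x j = ε (e.symm j) * x (e.symm j) := fun _ _ => rfl
  have hTpair : ∀ x y, ∑ j, T x j * T y j = ∑ i, x i * y i := by
    intro x y
    rw [← e.sum_comp]
    refine Finset.sum_congr rfl fun i _ => ?_
    rw [hT, hT, Equiv.symm_apply_apply]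
    linear_combination (x i * y i) * hεε i
  have hTred : ∀ x, red2 (T x) = fun j => red2 x (e.symm j) := by
    intro x
    funext j
    simp only [red2, hT, hε]
    split
    · simp
    · rw [Int.cast_mul, show ((-1 : ℤ) : ZMod 2) = 1 by decide, one_mul]
  set F : (Fin 24 → ℤ) →+ (GolayPt → ℤ) := T.toAddMonoidHom.comp f with hFdef
  have hmem : ∀ z, z ∈ F.range ↔ T.symm z ∈ f.range := by
    intro z
    constructor
    · rintro ⟨v, rfl⟩; exact ⟨v, by simp [hFdef]⟩
    · rintro ⟨v, hv⟩; exact ⟨v, by simp [hFdef, hv]⟩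
  have hFr : Framed F.range := by
    refine ⟨fun x hx z hz => ?_, fun x hx => ?_, fun x hx hne => ?_, fun b hb => ?_⟩
    · rw [← T.apply_symm_apply x, ← T.apply_symm_apply z, hTpair]
      exact hF.dot _ ((hmem x).1 hx) _ ((hmem z).1 hz)
    · rw [← T.apply_symm_apply x, hTpair]
      exact hF.nrm _ ((hmem x).1 hx)
    · rw [← T.apply_symm_apply x, hTpair]
      exact hF.low _ ((hmem x).1 hx) fun h => hne (by rw [← T.apply_symm_apply x, h, map_zero])
    · rw [hmem, map_zsmul]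
      refine hF.four _ ?_
      have h2 : (2 : ℤ) ∣ (∑ i, T.symm b i) - ∑ j, b j := by
        rw [← e.sum_comp b, ← Finset.sum_sub_distrib]
        refine Finset.dvd_sum fun i _ => ?_
        show (2 : ℤ) ∣ ε i * b (e i) - b (e i)
        simp only [hε]
        split
        · simp
        · exact ⟨-b (e i), by ring⟩
      rw [even_iff_two_dvd] at hb ⊢
      omega
  have hcode : ∀ w : GolayPt → ZMod 2, w ∈ code F.range ↔ w ∈ golayCode := by
    intro w
    rw [he w]
    constructor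
    · rintro ⟨b, hb, rfl⟩
      refine ⟨T.symm b, ?_, ?_⟩
      · rw [← map_zsmul]; exact (hmem _).1 hb
      · have := hTred (T.symm b)
        rw [T.apply_symm_apply] at this
        funext i
        rw [this]
        simp
    · rintro ⟨b, hb, hbr⟩
      refine ⟨T b, ?_, ?_⟩
      · rw [hmem, map_zsmul, T.symm_apply_apply]; exact hb
      · rw [hTred, hbr]
        funext j
        simp
  have hrep : ∀ w ∈ golayCode, ∃ b : GolayPt → ℤ,
      (2 : ℤ) • b ∈ F.range ∧ red2 b = w ∧ (4 : ℤ) ∣ ∑ j, b j := by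
    intro w hw
    set c : C := ⟨_, (he w).1 hw⟩
    refine ⟨T (a c), ?_, ?_, ?_⟩
    · rw [hmem, map_zsmul, T.symm_apply_apply]; exact ha c
    · rw [hTred, har c]
      funext j
      simp [c]
    · rw [← e.sum_comp]
      simpa [hT] using hεsum c
  have horth' : ∀ v : GolayPt → ZMod 2, (∀ c ∈ golayCode, ∑ i, v i * c i = 0) → v ∈ golayCode := by
    intro v hv
    refine (he v).2 (mem_of_orth horth (by rw [hdim, h24]) fun c hc => ?_)
    have hw : (fun j => c (e.symm j)) ∈ golayCode := (he _).2 (by simpa using hc)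
    have := hv _ hw
    rw [← e.sum_comp] at this
    simpa using this
  have hodd : ∃ z ∈ F.range, ∀ j, z j % 2 = 1 := by
    refine ⟨T y, (hmem _).2 (by rwa [T.symm_apply_apply]), fun j => ?_⟩
    have := hyo (e.symm j)
    rw [hT]
    simp only [hε]
    split <;> omega
  have hEq := eq_leech F.range hFr hrep (fun w hw => (hcode w).1 hw) horth' hodd
  have hFi : Function.Injective F := fun u v h => hinj (T.injective h)
  refine ⟨(AddMonoidHom.ofInjective hFi).trans (AddEquiv.addSubgroupCongr hEq), fun x => ?_⟩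
  show ∑ j, (F x j) ^ 2 = _
  rw [← hnorm x, ← hTpair]
  exact Finset.sum_congr rfl fun j _ => sq _

end Cfsg.Lib.Leech.Unique
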