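import Mathlib

/-!
Integer vectors of norm 32 in a lattice of frame type, and the binary code of such a lattice.
-/

set_option autoImplicit false

namespace Cfsg.Lib.Leech.Unique

variable {ι : Type} [Fintype ι] [DecidableEq ι]

/-- An integral lattice in coordinates of a frame. -/
structure Framed (Λ : AddSubgroup (ι → ℤ)) : Prop where
  dot : ∀ x ∈ Λ, ∀ y ∈ Λ, (8 : ℤ) ∣ ∑ i, x i * y i
  nrm : ∀ x ∈ Λ, (16 : ℤ) ∣ ∑ i, x i * x i
  low : ∀ x ∈ Λ, x ≠ 0 → 32 ≤ ∑ i, x i * x i
  four : ∀ b : ι → ℤ, Even (∑ i, b i) → (4 : ℤ) • b ∈ Λ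

theorem cast_two_eq_iff (a b : ℤ) : (a : ZMod 2) = (b : ZMod 2) ↔ (2 : ℤ) ∣ a - b := by
  rw [ZMod.intCast_eq_intCast_iff_dvd_sub, ← dvd_neg, neg_sub]
  norm_num

/-- Reduction modulo two. -/
def red2 (a : ι → ℤ) : ι → ZMod 2 := fun i => (a i : ZMod 2)

/-- The binary code of a lattice. -/
def code (Λ : AddSubgroup (ι → ℤ)) : Submodule (ZMod 2) (ι → ZMod 2) where
  carrier := {c | ∃ a : ι → ℤ, (2 : ℤ) • a ∈ Λ ∧ red2 a = c}
  add_mem' := by
    rintro c d ⟨a, ha, rfl⟩ ⟨b, hb, rfl⟩
    exact ⟨a + b, by rw [smul_add]; exact add_mem ha hb, funext fun i => by simp [red2]⟩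
  zero_mem' := ⟨0, by simp, funext fun i => by simp [red2]⟩
  smul_mem' := by
    intro k c hc
    rcases (show ∀ k : ZMod 2, k = 0 ∨ k = 1 by decide) k with rfl | rfl
    · rw [zero_smul]; exact ⟨0, by simp, funext fun i => by simp [red2]⟩
    · rwa [one_smul]

theorem mem_code {Λ : AddSubgroup (ι → ℤ)} {c : ι → ZMod 2} :
    c ∈ code Λ ↔ ∃ a : ι → ℤ, (2 : ℤ) • a ∈ Λ ∧ red2 a = c := Iff.rfl

theorem red2_eq_iff (a b : ι → ℤ) : red2 a = red2 b ↔ ∃ d : ι → ℤ, a = b + (2 : ℤ) • d := by
  constructor
  · intro h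
    choose d hd using fun i => (cast_two_eq_iff _ _).1 (congrFun h i)
    exact ⟨d, funext fun i => by simp only [Pi.add_apply, Pi.smul_apply, smul_eq_mul]; linarith [hd i]⟩
  · rintro ⟨d, rfl⟩
    exact funext fun i => (cast_two_eq_iff _ _).2 ⟨d i, by simp⟩

namespace Framed

variable {Λ : AddSubgroup (ι → ℤ)} (hΛ : Framed Λ)

include hΛ

theorem parity {x : ι → ℤ} (hx : x ∈ Λ) (i j : ι) : (2 : ℤ) ∣ x i - x j := by
  have h := hΛ.dot _ hx _ (hΛ.four (Pi.single i 1 + Pi.single j 1)
    (by simp [Finset.sum_add_distrib]))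
  have e : ∑ k, x k * ((4 : ℤ) • (Pi.single i 1 + Pi.single j 1 : ι → ℤ)) k = 4 * (x i + x j) := by
    simp [mul_add, Finset.sum_add_distrib, Pi.single_apply, mul_comm, mul_left_comm, add_mul]
  rw [e] at h
  omega

/-- `4b` lies in the lattice exactly for an even coordinate sum. -/
theorem four_iff (b : ι → ℤ) : (4 : ℤ) • b ∈ Λ ↔ Even (∑ i, b i) := by
  refine ⟨fun h => ?_, hΛ.four b⟩
  rcases Int.even_or_odd (∑ i, b i) with he | ho
  · exact he
  · exfalso
    obtain ⟨k, -⟩ : ∃ k : ι, b k ≠ 0 := by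
      by_contra hc
      simp only [ne_eq, not_exists, not_not] at hc
      simp [hc] at ho
    have h1 := hΛ.four (b - Pi.single k 1) (by
      simp only [Pi.sub_apply, Finset.sum_sub_distrib, Finset.sum_pi_single', Finset.mem_univ, if_true]
      exact ho.sub_odd odd_one)
    have h2 : (4 : ℤ) • (Pi.single k 1 : ι → ℤ) ∈ Λ := by
      have := sub_mem h h1
      rwa [← smul_sub, sub_sub_cancel] at this
    have h3 := hΛ.low _ h2 (fun e => by simpa using congrFun e k)
    have e : ∑ i, ((4 : ℤ) • (Pi.single k 1 : ι → ℤ)) i * ((4 : ℤ) • (Pi.single k 1 : ι → ℤ)) i = 16 := by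
      simp [Pi.single_apply]
    omega

/-- Two halves of even vectors with the same reduction. -/
theorem diff_even {a a' : ι → ℤ} (ha : (2 : ℤ) • a ∈ Λ) (ha' : (2 : ℤ) • a' ∈ Λ) {d : ι → ℤ}
    (hd : a = a' + (2 : ℤ) • d) : Even (∑ i, d i) := by
  rw [← hΛ.four_iff]
  have := sub_mem ha ha'
  rw [hd, smul_add, add_sub_cancel_left, smul_smul] at this
  exact this

theorem sq_mod_four {a : ι → ℤ} (ha : (2 : ℤ) • a ∈ Λ) : (4 : ℤ) ∣ ∑ i, a i * a i := by
  have := hΛ.nrm _ ha
  have e : ∑ i, ((2 : ℤ) • a) i * ((2 : ℤ) • a) i = 4 * ∑ i, a i * a i := by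
    rw [Finset.mul_sum]
    exact Finset.sum_congr rfl fun i _ => by simp only [Pi.smul_apply, smul_eq_mul]; ring
  omega

theorem code_orth {c d : ι → ZMod 2} (hc : c ∈ code Λ) (hd : d ∈ code Λ) : ∑ i, c i * d i = 0 := by
  obtain ⟨a, ha, rfl⟩ := hc
  obtain ⟨b, hb, rfl⟩ := hd
  have h := hΛ.dot _ ha _ hb
  have e : ∑ i, ((2 : ℤ) • a) i * ((2 : ℤ) • b) i = 4 * ∑ i, a i * b i := by
    rw [Finset.mul_sum]
    exact Finset.sum_congr rfl fun i _ => by simp only [Pi.smul_apply, smul_eq_mul]; ring
  have h2 : (2 : ℤ) ∣ ∑ i, a i * b i := by omega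
  obtain ⟨k, hk⟩ := h2
  calc ∑ i, red2 a i * red2 b i = ((∑ i, a i * b i : ℤ) : ZMod 2) := by simp [red2]
    _ = 0 := by
      rw [hk, Int.cast_mul]
      rw [show ((2 : ℤ) : ZMod 2) = 0 by decide, zero_mul]

omit hΛ in
theorem norm_red2 (a : ι → ℤ) : (4 : ℤ) ∣ (∑ i, a i * a i) - (hammingNorm (red2 a) : ℤ) := by
  have e : (hammingNorm (red2 a) : ℤ) = ∑ i, if red2 a i ≠ 0 then (1 : ℤ) else 0 := by
    rw [Finset.sum_boole]; rfl
  rw [e, ← Finset.sum_sub_distrib]
  refine Finset.dvd_sum fun i _ => ?_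
  rcases Int.emod_two_eq_zero_or_one (a i) with h | h
  · have h0 : red2 a i = 0 := by
      rw [red2, ← Int.cast_zero, cast_two_eq_iff]; omega
    rw [if_neg (not_not.2 h0)]
    obtain ⟨m, hm⟩ : (2 : ℤ) ∣ a i := by omega
    exact ⟨m * m, by rw [hm]; ring⟩
  · have h1 : red2 a i = 1 := by
      rw [red2, ← Int.cast_one, cast_two_eq_iff]; omega
    rw [if_pos (by rw [h1]; decide)]
    obtain ⟨m, hm⟩ : ∃ m, a i = 2 * m + 1 := ⟨a i / 2, by omega⟩
    exact ⟨m * m + m, by rw [hm]; ring⟩

theorem code_four {c : ι → ZMod 2} (hc : c ∈ code Λ) : 4 ∣ hammingNorm c := by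
  obtain ⟨a, ha, rfl⟩ := hc
  have h1 := hΛ.sq_mod_four ha
  have h2 := norm_red2 a
  omega

theorem code_not_four {c : ι → ZMod 2} (hc : c ∈ code Λ) : hammingNorm c ≠ 4 := by
  intro h
  obtain ⟨a, ha, rfl⟩ := hc
  set a0 : ι → ℤ := fun i => if red2 a i ≠ 0 then 1 else 0 with ha0
  have hr : red2 a = red2 a0 := funext fun i => by
    rcases (show ∀ k : ZMod 2, k = 0 ∨ k = 1 by decide) (red2 a i) with h' | h' <;>
      · rw [h']; simp [red2, ha0]; simp only [red2] at h'; simp [h']
  obtain ⟨d, hd⟩ := (red2_eq_iff _ _).1 hr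
  obtain ⟨k, hk⟩ : ∃ k, red2 a k ≠ 0 := by
    by_contra hc
    simp only [ne_eq, not_exists, not_not] at hc
    have : red2 a = 0 := funext hc
    simp [this] at h
  have key : ∀ (b : ι → ℤ) (d' : ι → ℤ), a = b + (2 : ℤ) • d' → Even (∑ i, d' i) →
      (∀ i, b i * b i = a0 i) → False := by
    intro b d' hb he hsq
    have hm : (2 : ℤ) • b ∈ Λ := by
      have := sub_mem ha (hΛ.four d' he)
      rw [hb, smul_add, smul_smul] at this
      simpa using this
    have hn : ∑ i, ((2 : ℤ) • b) i * ((2 : ℤ) • b) i = 16 := by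
      have e : ∑ i, a0 i = 4 := by
        rw [ha0, Finset.sum_boole]
        exact_mod_cast h
      calc ∑ i, ((2 : ℤ) • b) i * ((2 : ℤ) • b) i = ∑ i, 4 * a0 i := Finset.sum_congr rfl fun i _ => by
            simp only [Pi.smul_apply, smul_eq_mul, ← hsq i]; ring
        _ = 16 := by rw [← Finset.mul_sum, e]; norm_num
    have := hΛ.low _ hm (fun e => by rw [e] at hn; simp at hn)
    omega
  rcases Int.even_or_odd (∑ i, d i) with he | ho
  · exact key a0 d hd he fun i => by simp only [ha0]; split <;> norm_num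
  · refine key (a0 - Pi.single k 2) (d + Pi.single k 1) ?_ ?_ fun i => ?_
    · rw [hd]; ext i
      by_cases hik : i = k
      · subst hik; simp
      · simp [hik]
    · simp only [Pi.add_apply, Finset.sum_add_distrib, Finset.sum_pi_single', Finset.mem_univ, if_true]
      exact ho.add_odd odd_one
    · by_cases hik : i = k
      · subst hik; simp [ha0, hk]
      · simp only [Pi.sub_apply, ne_eq, hik, not_false_eq_true, Pi.single_eq_of_ne, sub_zero]
        simp only [ha0]; split <;> norm_num

end Framed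

/-- Vectors with entries `-1`, `0`, `1` and a given support whose entries off a point are given. -/
theorem sign_count (S : Finset (ι → ℤ)) (s : Finset ι)
    (hent : ∀ a ∈ S, ∀ i, (i ∈ s → a i = 1 ∨ a i = -1) ∧ (i ∉ s → a i = 0)) :
    S.card ≤ 2 ^ s.card := by
  rw [← Finset.card_powerset]
  refine Finset.card_le_card_of_injOn (fun a => s.filter fun i => a i = 1)
    (fun a _ => Finset.mem_powerset.2 (Finset.filter_subset _ _)) ?_
  intro a ha b hb h
  funext i
  have h' := Finset.ext_iff.1 h i
  simp only [Finset.mem_filter] at h'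
  by_cases his : i ∈ s
  · rcases (hent a ha i).1 his with e | e <;> rcases (hent b hb i).1 his with e' | e' <;>
      simp [his, e, e'] at h' ⊢
  · rw [(hent a ha i).2 his, (hent b hb i).2 his]

theorem entries {a : ι → ℤ} (h : ∑ i, a i * a i = (hammingNorm (red2 a) : ℤ)) (i : ι) :
    (red2 a i ≠ 0 → a i = 1 ∨ a i = -1) ∧ (red2 a i = 0 → a i = 0) := by
  have e : (hammingNorm (red2 a) : ℤ) = ∑ j, if red2 a j ≠ 0 then (1 : ℤ) else 0 := by
    rw [Finset.sum_boole]; rfl
  rw [e] at h
  have hle : ∀ j ∈ (Finset.univ : Finset ι), (if red2 a j ≠ 0 then (1 : ℤ) else 0) ≤ a j * a j := by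
    intro j _
    split
    · rename_i hj
      have : a j ≠ 0 := fun e => hj (by simp [red2, e])
      nlinarith [Int.one_le_abs this, abs_mul_abs_self (a j), abs_nonneg (a j)]
    · exact mul_self_nonneg _
  have heq := (Finset.sum_eq_sum_iff_of_le hle).1 h.symm i (Finset.mem_univ _)
  constructor
  · intro hi
    rw [if_pos hi] at heq
    exact mul_self_eq_one_iff.1 heq.symm
  · intro hi
    rw [if_neg (not_not.2 hi)] at heq
    exact mul_self_eq_zero.1 heq.symm

omit [DecidableEq ι] in
/-- A self-orthogonal code has at most half the dimension, and linear forms on it are dot products. -/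
theorem dot_surjective (C : Submodule (ZMod 2) (ι → ZMod 2)) (φ : Module.Dual (ZMod 2) C) :
    ∃ s : ι → ZMod 2, ∀ c : C, φ c = ∑ i, s i * (c : ι → ZMod 2) i := by
  classical
  obtain ⟨ψ, hψ⟩ := φ.exists_extend
  refine ⟨fun i => ψ (fun j => if i = j then 1 else 0), fun c => ?_⟩
  rw [← hψ, LinearMap.comp_apply, Submodule.subtype_apply]
  conv_lhs => rw [pi_eq_sum_univ (c : ι → ZMod 2)]
  simp [map_sum, mul_comm]

/-- The functional `c ↦ v · c`. -/
def dotDual (C : Submodule (ZMod 2) (ι → ZMod 2)) : (ι → ZMod 2) →ₗ[ZMod 2] Module.Dual (ZMod 2) C where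
  toFun v :=
    { toFun := fun c => ∑ i, v i * (c : ι → ZMod 2) i
      map_add' := fun c d => by simp [mul_add, Finset.sum_add_distrib]
      map_smul' := fun k c => by simp [Finset.mul_sum, mul_left_comm] }
  map_add' v w := LinearMap.ext fun c => by simp [add_mul, Finset.sum_add_distrib]
  map_smul' k v := LinearMap.ext fun c => by simp [Finset.mul_sum, mul_assoc]

omit [DecidableEq ι] in
theorem finrank_ker (C : Submodule (ZMod 2) (ι → ZMod 2)) :
    Module.finrank (ZMod 2) C + Module.finrank (ZMod 2) (LinearMap.ker (dotDual C)) = Fintype.card ι := by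
  have hs : Function.Surjective (dotDual C) := fun φ => by
    obtain ⟨s, hs⟩ := dot_surjective C φ
    exact ⟨s, LinearMap.ext fun c => (hs c).symm⟩
  have := LinearMap.finrank_range_add_finrank_ker (dotDual C)
  rw [LinearMap.range_eq_top.2 hs, finrank_top, Subspace.dual_finrank_eq, Module.finrank_pi] at this
  exact this

omit [DecidableEq ι] in
theorem two_finrank_le {C : Submodule (ZMod 2) (ι → ZMod 2)} (h : ∀ c ∈ C, ∀ d ∈ C, ∑ i, c i * d i = 0) :
    2 * Module.finrank (ZMod 2) C ≤ Fintype.card ι := by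
  have hle : C ≤ LinearMap.ker (dotDual C) := fun v hv => LinearMap.mem_ker.2 (LinearMap.ext fun c => h v hv _ c.2)
  have := Submodule.finrank_mono hle
  have := finrank_ker C
  omega

omit [DecidableEq ι] in
theorem mem_of_orth {C : Submodule (ZMod 2) (ι → ZMod 2)} (h : ∀ c ∈ C, ∀ d ∈ C, ∑ i, c i * d i = 0)
    (hd : 2 * Module.finrank (ZMod 2) C = Fintype.card ι) {v : ι → ZMod 2}
    (hv : ∀ c ∈ C, ∑ i, v i * c i = 0) : v ∈ C := by
  have hle : C ≤ LinearMap.ker (dotDual C) := fun v hv => LinearMap.mem_ker.2 (LinearMap.ext fun c => h v hv _ c.2)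
  have := finrank_ker C
  rw [Submodule.eq_of_le_of_finrank_eq hle (by omega)]
  exact LinearMap.mem_ker.2 (LinearMap.ext fun c => hv _ c.2)

namespace Framed

variable {Λ : AddSubgroup (ι → ℤ)} (hΛ : Framed Λ) (h24 : Fintype.card ι = 24)

include hΛ h24

/-- The even vectors of norm 32. -/
theorem even_count (H : Finset (ι → ℤ))
    (hH : ∀ a ∈ H, (2 : ℤ) • a ∈ Λ ∧ ∑ i, a i * a i = 8) : H.card ≤ 1104 + 128 * 759 := by
  classical
  have hwt : ∀ a ∈ H, hammingNorm (red2 a) = 0 ∨ hammingNorm (red2 a) = 8 := by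
    intro a ha
    obtain ⟨h1, h2⟩ := hH a ha
    have c4 := hΛ.code_four ⟨a, h1, rfl⟩
    have c4' := hΛ.code_not_four ⟨a, h1, rfl⟩
    have hle : (hammingNorm (red2 a) : ℤ) ≤ ∑ i, a i * a i := by
      have e : (hammingNorm (red2 a) : ℤ) = ∑ i, if red2 a i ≠ 0 then (1 : ℤ) else 0 := by
        rw [Finset.sum_boole]; rfl
      rw [e]
      refine Finset.sum_le_sum fun i _ => ?_
      split
      · rename_i hi
        have : a i ≠ 0 := fun e => hi (by simp [red2, e])
        nlinarith [Int.one_le_abs this, abs_mul_abs_self (a i), abs_nonneg (a i)]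
      · exact mul_self_nonneg _
    omega
  set H0 := H.filter fun a => hammingNorm (red2 a) = 0
  set H8 := H.filter fun a => hammingNorm (red2 a) = 8
  have hsplit : H ⊆ H0 ∪ H8 := fun a ha => by
    rcases hwt a ha with h | h
    · exact Finset.mem_union_left _ (Finset.mem_filter.2 ⟨ha, h⟩)
    · exact Finset.mem_union_right _ (Finset.mem_filter.2 ⟨ha, h⟩)
  -- halves of `H0`
  have b0 : H0.card ≤ 1104 := by
    set K := H0.image fun a : ι → ℤ => fun i => a i / 2 with hK
    have hhalf : ∀ a ∈ H0, ∀ i, a i = 2 * (a i / 2) := by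
      intro a ha i
      have := congrFun (hammingNorm_eq_zero.1 (Finset.mem_filter.1 ha).2) i
      simp only [red2, Pi.zero_apply, ← Int.cast_zero (R := ZMod 2), cast_two_eq_iff] at this
      omega
    have hcard : H0.card = K.card := by
      rw [hK, Finset.card_image_of_injOn]
      intro a ha b hb h
      funext i
      have hi := congrFun h i
      simp only at hi
      rw [hhalf a ha i, hhalf b hb i, hi]
    have hk : ∀ b ∈ K, ∑ i, b i * b i = 2 := by
      intro b hb
      obtain ⟨a, ha, rfl⟩ := Finset.mem_image.1 hb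
      have h8 := (hH a (Finset.mem_filter.1 ha).1).2
      have e : ∑ i, a i * a i = 4 * ∑ i, (a i / 2) * (a i / 2) := by
        rw [Finset.mul_sum]
        refine Finset.sum_congr rfl fun i _ => ?_
        conv_lhs => rw [hhalf a ha i]
        ring
      simp only
      omega
    have hks : ∀ b ∈ K, ((Finset.univ.filter fun i => b i ≠ 0).card = 2) ∧
        ∀ i, b i ≠ 0 → b i = 1 ∨ b i = -1 := by
      intro b hb
      have h2 := hk b hb
      have hsm : ∀ i, b i ≠ 0 → b i = 1 ∨ b i = -1 := by
        intro i hi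
        have hle : b i * b i ≤ 2 := h2 ▸ Finset.single_le_sum (f := fun j => b j * b j)
          (fun j _ => mul_self_nonneg _) (Finset.mem_univ i)
        have hu : b i < 2 := by nlinarith
        have hl : -2 < b i := by nlinarith
        omega
      refine ⟨?_, hsm⟩
      have e : ∑ i, b i * b i = ∑ i, if b i ≠ 0 then (1 : ℤ) else 0 := Finset.sum_congr rfl fun i _ => by
        by_cases hi : b i = 0
        · simp [hi]
        · rcases hsm i hi with e | e <;> simp [e]
      rw [h2, Finset.sum_boole] at e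
      exact_mod_cast e.symm
    have hf := Finset.card_le_mul_card_image (f := fun b : ι → ℤ => Finset.univ.filter fun i => b i ≠ 0) K 4
      fun s hs => by
        obtain ⟨b, hb, rfl⟩ := Finset.mem_image.1 hs
        refine (sign_count _ (Finset.univ.filter fun i => b i ≠ 0) fun a ha i => ?_).trans (by rw [(hks b hb).1]; norm_num)
        obtain ⟨haK, has⟩ := Finset.mem_filter.1 ha
        rw [← has]
        simp only [Finset.mem_filter, Finset.mem_univ, true_and, not_not]
        exact ⟨(hks a haK).2 i, id⟩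
    have hi : (K.image fun b : ι → ℤ => Finset.univ.filter fun i => b i ≠ 0).card ≤ Nat.choose 24 2 := by
      rw [← h24, ← Finset.card_univ, ← Finset.card_powersetCard]
      refine Finset.card_le_card fun s hs => ?_
      obtain ⟨b, hb, rfl⟩ := Finset.mem_image.1 hs
      exact Finset.mem_powersetCard.2 ⟨Finset.subset_univ _, (hks b hb).1⟩
    rw [show Nat.choose 24 2 = 276 by decide] at hi
    omega
  -- weight eight
  have b8 : H8.card ≤ 128 * 759 := by
    have hf := Finset.card_le_mul_card_image (f := red2) H8 128 fun c hc => by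
      obtain ⟨a₁, ha₁, rfl⟩ := Finset.mem_image.1 hc
      set supp := Finset.univ.filter fun i => red2 a₁ i ≠ 0 with hsupp
      have hs8 : supp.card = 8 := (Finset.mem_filter.1 ha₁).2
      obtain ⟨k, hk⟩ := Finset.card_pos.1 (show 0 < supp.card by omega)
      set R := H8.filter fun a => red2 a = red2 a₁
      have hE : ∀ a ∈ R, ∀ i, (i ∈ supp → a i = 1 ∨ a i = -1) ∧ (i ∉ supp → a i = 0) := by
        intro a ha i
        obtain ⟨ha8, har⟩ := Finset.mem_filter.1 ha
        obtain ⟨haH, hw⟩ := Finset.mem_filter.1 ha8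
        have := entries (a := a) (by rw [(hH a haH).2, hw]; norm_num) i
        rw [har] at this
        simpa [hsupp] using this
      -- forget the entry at `k`
      set F : (ι → ℤ) → (ι → ℤ) := fun a i => if i = k then 0 else a i
      have hinj : Set.InjOn F (R : Set (ι → ℤ)) := by
        intro a ha b hb h
        have hoff : ∀ i, i ≠ k → a i = b i := fun i hi => by simpa [F, hi] using congrFun h i
        have hd : ∃ d : ι → ℤ, a = b + (2 : ℤ) • d := (red2_eq_iff _ _).1
          ((Finset.mem_filter.1 ha).2.trans (Finset.mem_filter.1 hb).2.symm)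
        obtain ⟨d, hd⟩ := hd
        have hd0 : ∀ i, i ≠ k → d i = 0 := fun i hi => by
          have := congrFun hd i
          simp only [Pi.add_apply, Pi.smul_apply, smul_eq_mul, hoff i hi] at this
          omega
        have he := hΛ.diff_even (hH a (Finset.mem_filter.1 (Finset.mem_filter.1 ha).1).1).1
          (hH b (Finset.mem_filter.1 (Finset.mem_filter.1 hb).1).1).1 hd
        rw [Finset.sum_eq_single k (fun i _ hi => hd0 i hi) (by simp)] at he
        funext i
        by_cases hi : i = k
        · have hak := (hE a ha k).1 hk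
          have hbk := (hE b hb k).1 hk
          have := congrFun hd k
          simp only [Pi.add_apply, Pi.smul_apply, smul_eq_mul] at this
          obtain ⟨m, hm⟩ := he
          subst hi
          omega
        · exact hoff i hi
      rw [← Finset.card_image_of_injOn hinj]
      refine (sign_count _ (supp.erase k) fun x hx i => ?_).trans
        (by rw [Finset.card_erase_of_mem hk, hs8]; norm_num)
      obtain ⟨a, ha, rfl⟩ := Finset.mem_image.1 hx
      by_cases hi : i = k
      · subst hi; simp [F]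
      · simpa [F, hi] using hE a ha i
    have hi : (H8.image red2).card ≤ 759 := by
      set U := H8.image red2
      set P : (ι → ZMod 2) → Finset (Finset ι) := fun c => (Finset.univ.filter fun i => c i ≠ 0).powersetCard 5
      have hU : ∀ c ∈ U, c ∈ code Λ ∧ hammingNorm c = 8 := fun c hc => by
        obtain ⟨a, ha, rfl⟩ := Finset.mem_image.1 hc
        exact ⟨⟨a, (hH a (Finset.mem_filter.1 ha).1).1, rfl⟩, (Finset.mem_filter.1 ha).2⟩
      have hdis : (U : Set (ι → ZMod 2)).PairwiseDisjoint P := by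
        intro c hc d hd hcd
        refine Finset.disjoint_left.2 fun t ht ht' => hcd ?_
        obtain ⟨t1, t5⟩ := Finset.mem_powersetCard.1 ht
        obtain ⟨t1', -⟩ := Finset.mem_powersetCard.1 ht'
        have hm : c + d ∈ code Λ := add_mem (hU c hc).1 (hU d hd).1
        have hle : hammingNorm (c + d) ≤ 6 := by
          have hsub : (Finset.univ.filter fun i => (c + d) i ≠ 0) ⊆
              ((Finset.univ.filter fun i => c i ≠ 0) ∪ (Finset.univ.filter fun i => d i ≠ 0)) \ t := by
            intro i hi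
            simp only [Finset.mem_filter, Finset.mem_univ, true_and, Pi.add_apply] at hi
            have e : ∀ x y : ZMod 2, x + y ≠ 0 → (x ≠ 0 ∨ y ≠ 0) ∧ ¬(x ≠ 0 ∧ y ≠ 0) := by decide
            obtain ⟨e1, e2⟩ := e _ _ hi
            refine Finset.mem_sdiff.2 ⟨by simpa using e1, fun hit => e2 ⟨?_, ?_⟩⟩
            · simpa using t1 hit
            · simpa using t1' hit
          have h1 := Finset.card_le_card hsub
          rw [Finset.card_sdiff_of_subset (t1.trans Finset.subset_union_left)] at h1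
          have h2 := Finset.card_union_add_card_inter (Finset.univ.filter fun i => c i ≠ 0)
            (Finset.univ.filter fun i => d i ≠ 0)
          have h3 : 5 ≤ ((Finset.univ.filter fun i => c i ≠ 0) ∩ (Finset.univ.filter fun i => d i ≠ 0)).card := by
            rw [← t5]; exact Finset.card_le_card (Finset.subset_inter t1 t1')
          have hc8 : (Finset.univ.filter fun i => c i ≠ 0).card = 8 := (hU c hc).2
          have hd8 : (Finset.univ.filter fun i => d i ≠ 0).card = 8 := (hU d hd).2
          show (Finset.univ.filter fun i => (c + d) i ≠ 0).card ≤ 6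
          omega
        have h4 := hΛ.code_four hm
        have h4' := hΛ.code_not_four hm
        have h0 : c + d = 0 := hammingNorm_eq_zero.1 (by omega)
        funext i
        exact (show ∀ x y : ZMod 2, x + y = 0 → x = y by decide) _ _ (congrFun h0 i)
      have h1 : (U.biUnion P).card ≤ Nat.choose 24 5 := by
        rw [← h24, ← Finset.card_univ, ← Finset.card_powersetCard]
        refine Finset.card_le_card fun t ht => ?_
        obtain ⟨c, -, hc⟩ := Finset.mem_biUnion.1 ht
        exact Finset.mem_powersetCard.2 ⟨Finset.subset_univ _, (Finset.mem_powersetCard.1 hc).2⟩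
      rw [Finset.card_biUnion hdis, Finset.sum_congr rfl fun c hc =>
        (show (P c).card = 56 by
          simp only [P, Finset.card_powersetCard]
          rw [show (Finset.univ.filter fun i => c i ≠ 0).card = 8 from (hU c hc).2]
          decide), Finset.sum_const, smul_eq_mul, show Nat.choose 24 5 = 42504 by decide] at h1
      omega
    omega
  have := (Finset.card_le_card hsplit).trans (Finset.card_union_le _ _)
  omega

omit h24 in
/-- The odd vectors of norm 32 have one entry of absolute value 3. -/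
theorem odd_shape {x : ι → ℤ} (h24 : Fintype.card ι = 24) (ho : ∀ i, x i % 2 = 1) (hx : ∑ i, x i * x i = 32) :
    ∃ k, (x k = 3 ∨ x k = -3) ∧ ∀ i ≠ k, x i = 1 ∨ x i = -1 := by
  have hsum : ∑ i, (x i * x i - 1) = 8 := by
    rw [Finset.sum_sub_distrib, hx, Finset.sum_const, Finset.card_univ, h24]; norm_num
  have hne : ∀ i, x i = 1 ∨ x i = -1 ∨ 8 ≤ x i * x i - 1 := by
    intro i
    have := ho i
    rcases (show x i ≤ -3 ∨ x i = -1 ∨ x i = 1 ∨ 3 ≤ x i by omega) with h | h | h | h
    · right; right; nlinarith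
    · tauto
    · tauto
    · right; right; nlinarith
  have hnn : ∀ i ∈ (Finset.univ : Finset ι), 0 ≤ x i * x i - 1 := by
    intro i _
    rcases hne i with h | h | h
    · simp [h]
    · simp [h]
    · omega
  obtain ⟨k, hk⟩ : ∃ k, 8 ≤ x k * x k - 1 := by
    by_contra hc
    rw [Finset.sum_eq_zero fun i _ => ?_] at hsum
    · norm_num at hsum
    · rcases hne i with h | h | h
      · simp [h]
      · simp [h]
      · exact absurd ⟨i, h⟩ hc
  refine ⟨k, ?_, fun i hi => ?_⟩
  · have hle := Finset.single_le_sum hnn (Finset.mem_univ k)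
    rw [hsum] at hle
    have h9 : x k * x k = 3 * 3 := by omega
    exact mul_self_eq_mul_self_iff.1 h9
  · rcases hne i with h | h | h
    · exact Or.inl h
    · exact Or.inr h
    · exfalso
      have : (x k * x k - 1) + (x i * x i - 1) ≤ 8 := by
        rw [← hsum, ← Finset.sum_pair (f := fun j => x j * x j - 1) (Ne.symm hi)]
        exact Finset.sum_le_sum_of_subset_of_nonneg (Finset.subset_univ _) fun j hj _ => hnn j hj
      omega

theorem odd_count (O : Finset (ι → ℤ))
    (hO : ∀ x ∈ O, x ∈ Λ ∧ (∀ i, x i % 2 = 1) ∧ ∑ i, x i * x i = 32) :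
    O.card ≤ 24 * Nat.card (code Λ) := by
  classical
  rcases O.eq_empty_or_nonempty with rfl | ⟨y, hy⟩
  · simp
  obtain ⟨hyΛ, hyo, -⟩ := hO y hy
  haveI : Nonempty ι := Fintype.card_pos_iff.1 (by omega)
  choose! k hk using fun x (hx : x ∈ O) => odd_shape hΛ h24 (hO x hx).2.1 (hO x hx).2.2
  set g : (ι → ℤ) → ι × (ι → ZMod 2) := fun x => (k x, red2 fun i => (x i - y i) / 2)
  have hmaps : ∀ x ∈ O, g x ∈ Finset.univ ×ˢ (Finset.univ.filter fun c => c ∈ code Λ) := by
    intro x hx
    refine Finset.mem_product.2 ⟨Finset.mem_univ _, Finset.mem_filter.2 ⟨Finset.mem_univ _, ⟨_, ?_, rfl⟩⟩⟩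
    have e : (2 : ℤ) • (fun i => (x i - y i) / 2) = x - y := funext fun i => by
      have := (hO x hx).2.1 i
      have := hyo i
      simp only [Pi.smul_apply, Pi.sub_apply, smul_eq_mul]
      omega
    rw [e]
    exact sub_mem (hO x hx).1 hyΛ
  have hinj : Set.InjOn g O := by
    intro x hx x' hx' h
    simp only [g, Prod.mk.injEq] at h
    funext i
    have hc := (cast_two_eq_iff _ _).1 (congrFun h.2 i)
    have h1 := (hO x hx).2.1 i
    have h2 := (hO x' hx').2.1 i
    have h3 := hyo i
    by_cases hi : i = k x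
    · have a := (hk x hx).1
      have b := (hk x' hx').1
      rw [← h.1, ← hi] at b
      rw [← hi] at a
      simp only at hc
      omega
    · have a := (hk x hx).2 i hi
      have b := (hk x' hx').2 i (h.1 ▸ hi)
      simp only at hc
      omega
  have hle := Finset.card_le_card_of_injOn g hmaps hinj
  rw [Finset.card_product, Finset.card_univ, h24] at hle
  refine hle.trans (le_of_eq ?_)
  rw [Nat.card_eq_fintype_card, Fintype.card_subtype]

/-- The count of vectors of norm 32 forces a self-dual code and an odd vector. -/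
theorem code_full (h32 : {x : ι → ℤ | x ∈ Λ ∧ ∑ i, x i * x i = 32}.ncard = 196560) :
    Module.finrank (ZMod 2) (code Λ) = 12 ∧ ∃ y ∈ Λ, ∀ i, y i % 2 = 1 := by
  classical
  have hfin : {x : ι → ℤ | x ∈ Λ ∧ ∑ i, x i * x i = 32}.Finite := Set.finite_of_ncard_ne_zero (by omega)
  set N := hfin.toFinset with hN
  have mN : ∀ x, x ∈ N ↔ x ∈ Λ ∧ ∑ i, x i * x i = 32 := fun x => hfin.mem_toFinset
  have cN : N.card = 196560 := by rw [hN, ← Set.ncard_eq_toFinset_card _ hfin]; exact h32
  obtain ⟨i0⟩ : Nonempty ι := Fintype.card_pos_iff.1 (by omega)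
  set E := N.filter fun x => x i0 % 2 = 0
  set O := N.filter fun x => ¬ x i0 % 2 = 0
  have hsplit : E.card + O.card = N.card := Finset.card_filter_add_card_filter_not _
  have hE : E.card ≤ 1104 + 128 * 759 := by
    have hev : ∀ x ∈ E, (2 : ℤ) • (fun i => x i / 2) = x := by
      intro x hx
      obtain ⟨hxN, h0⟩ := Finset.mem_filter.1 hx
      funext i
      have := hΛ.parity ((mN x).1 hxN).1 i i0
      simp only [Pi.smul_apply, smul_eq_mul]
      omega
    rw [← Finset.card_image_of_injOn (f := fun (x : ι → ℤ) => fun i => x i / 2) (s := E)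
      (fun x hx x' hx' h => by rw [← hev x hx, ← hev x' hx']; exact congrArg _ h)]
    refine even_count hΛ h24 _ fun a ha => ?_
    obtain ⟨x, hx, rfl⟩ := Finset.mem_image.1 ha
    obtain ⟨hxΛ, hxn⟩ := (mN x).1 (Finset.mem_filter.1 hx).1
    refine ⟨by rw [hev x hx]; exact hxΛ, ?_⟩
    have e : ∑ i, x i * x i = 4 * ∑ i, (x i / 2) * (x i / 2) := by
      rw [Finset.mul_sum]
      refine Finset.sum_congr rfl fun i _ => ?_
      have : x i = 2 * (x i / 2) := (congrFun (hev x hx) i).symm.trans (by simp)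
      conv_lhs => rw [this]
      ring
    simp only
    omega
  have hodd : ∀ x ∈ O, x ∈ Λ ∧ (∀ i, x i % 2 = 1) ∧ ∑ i, x i * x i = 32 := by
    intro x hx
    obtain ⟨hxN, h0⟩ := Finset.mem_filter.1 hx
    obtain ⟨hxΛ, hxn⟩ := (mN x).1 hxN
    refine ⟨hxΛ, fun i => ?_, hxn⟩
    have := hΛ.parity hxΛ i i0
    omega
  have hO := odd_count hΛ h24 O hodd
  have hcard : Nat.card (code Λ) = 2 ^ Module.finrank (ZMod 2) (code Λ) := by
    rw [Module.natCard_eq_pow_finrank (K := ZMod 2), Nat.card_zmod]
  have h2 := two_finrank_le fun c hc d hd => hΛ.code_orth hc hd (Λ := Λ)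
  constructor
  · by_contra hne
    have : 2 ^ Module.finrank (ZMod 2) (code Λ) ≤ 2 ^ 11 := Nat.pow_le_pow_right (by norm_num) (by omega)
    omega
  · obtain ⟨y, hy⟩ := Finset.card_pos.1 (show 0 < O.card by omega)
    exact ⟨y, (hodd y hy).1, (hodd y hy).2.1⟩

end Framed

end Cfsg.Lib.Leech.Unique
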